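import Groth.Agent.CechEdgeLib.Edge
import Groth.Agent.CohLib.CechApply

/-!
# The edge maps of acyclic coverings
-/

set_option autoImplicit false
set_option backward.isDefEq.respectTransparency false
set_option backward.isDefEq.respectTransparency.types false
universe u

open CategoryTheory CategoryTheory.Limits Opposite CechEdge CohLib

noncomputable section

namespace CechEdgeLib

variable {C : Type u} [SmallCategory C] [HasPullbacks C] {J : GrothendieckTopology C} {U : C} {ι : Type u}
  {Y : ι → Over U} {e : ∀ (P : Cᵒᵖ ⥤ AddCommGrpCat.{u}) (p : ℕ), CohCx.cechH P Y p →+ CohSite.HU (shf J P) p U}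
  (F : Sheaf J AddCommGrpCat.{u})

/-- the embedding of presheaves -/
def fp : F.obj ⟶ (Injective.under F).obj := (Injective.ι F).hom

/-- the quotient presheaf -/
def quotPsh : Cᵒᵖ ⥤ AddCommGrpCat.{u} := cokernel (fp F)

/-- the projection to the quotient presheaf -/
def toQuot : (Injective.under F).obj ⟶ quotPsh F := cokernel.π (fp F)

theorem fp_toQuot : fp F ≫ toQuot F = 0 := cokernel.condition _

/-- the sequence of presheaves -/
abbrev pshSC : ShortComplex (Cᵒᵖ ⥤ AddCommGrpCat.{u}) := ShortComplex.mk (fp F) (toQuot F) (fp_toQuot F)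

theorem pshSC_shortExact : (pshSC F).ShortExact :=
  { exact := ShortComplex.exact_of_g_is_cokernel _ (cokernelIsCokernel (fp F))
    mono_f := mono_hom (Injective.ι F)
    epi_g := (inferInstance : Epi (cokernel.π (fp F))) }

/-- the quotient presheaf maps to the quotient sheaf -/
def quotMap : quotPsh F ⟶ (injSC F).X₃.obj :=
  cokernel.desc (fp F) (injSC F).g.hom (congrArg (fun k => k.hom) (injSC F).zero)

theorem toQuot_quotMap : toQuot F ≫ quotMap F = (injSC F).g.hom := cokernel.π_desc _ _ _

theorem quotMap_injective (V : C) : Function.Injective ((quotMap F).app (op V)) := by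
  have hS := pshSC_shortExact F
  haveI := hS.epi_g
  have hs : Function.Surjective ((toQuot F).app (op V)) :=
    (AddCommGrpCat.epi_iff_surjective _).1 (inferInstanceAs (Epi ((pshSC F).g.app (op V))))
  have h := (injSC_shortExact F).exact.map_of_mono_of_preservesKernel (sheafToPresheaf J AddCommGrpCat.{u})
    (injSC_shortExact F).mono_f inferInstance
  have hV := h.map ((evaluation Cᵒᵖ AddCommGrpCat.{u}).obj (op V))
  rw [injective_iff_map_eq_zero]
  intro a ha
  obtain ⟨b, rfl⟩ := hs a
  have hb : ((injSC F).g.hom.app (op V)) b = 0 := by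
    rw [← toQuot_quotMap]
    exact ha
  obtain ⟨c, rfl⟩ := (ShortComplex.ab_exact_iff _).1 hV b hb
  show ((fp F ≫ toQuot F).app (op V)) c = 0
  rw [fp_toQuot]
  rfl

theorem quotMap_surjective (V : C) [Subsingleton (CohSite.HU F 1 V)] :
    Function.Surjective ((quotMap F).app (op V)) := fun q => by
  haveI : Subsingleton (CohSite.HU (injSC F).X₁ 1 V) := ‹_›
  obtain ⟨b, hb⟩ := surjective_sections_of_HU (injSC_shortExact F) V q
  refine ⟨(toQuot F).app (op V) b, ?_⟩
  rw [← hb, ← toQuot_quotMap]
  rfl

theorem isIso_shfMap_quotMap : IsIso (shfMap J (quotMap F)) := by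
  let adj := sheafificationAdjunction J AddCommGrpCat.{u}
  let G := presheafToSheaf J AddCommGrpCat.{u}
  have h₁ := (pshSC_shortExact F).map_of_exact G
  have h₂ := injSC_shortExact F
  let φ : (pshSC F).map G ⟶ injSC F := ShortComplex.homMk (adj.counit.app F) (adj.counit.app (Injective.under F))
    (shfMap J (quotMap F) ≫ adj.counit.app (injSC F).X₃)
    (adj.counit.naturality (Injective.ι F)).symm
    (by
      refine (adj.counit.naturality (injSC F).g).symm.trans ?_
      show G.map (injSC F).g.hom ≫ _ = G.map (toQuot F) ≫ G.map (quotMap F) ≫ _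
      rw [← G.map_comp_assoc, toQuot_quotMap])
  haveI := h₁.epi_g
  haveI := h₂.epi_g
  haveI : IsIso φ.τ₁ := inferInstanceAs (IsIso (adj.counit.app F))
  haveI : IsIso φ.τ₂ := inferInstanceAs (IsIso (adj.counit.app (Injective.under F)))
  let ψ : (injSC F).X₃ ⟶ ((pshSC F).map G).X₃ := h₂.exact.desc (inv φ.τ₂ ≫ ((pshSC F).map G).g) (by
    rw [← cancel_epi φ.τ₁, φ.comm₁₂_assoc, IsIso.hom_inv_id_assoc, ShortComplex.zero, comp_zero])
  haveI : IsIso φ.τ₃ := ⟨ψ, by
    rw [← cancel_epi ((pshSC F).map G).g, Category.comp_id, ← φ.comm₂₃_assoc, h₂.exact.g_desc,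
      IsIso.hom_inv_id_assoc], by
    rw [← cancel_epi (injSC F).g, Category.comp_id, h₂.exact.g_desc_assoc, Category.assoc, ← φ.comm₂₃,
      IsIso.inv_hom_id_assoc]⟩
  have h3 : IsIso (shfMap J (quotMap F) ≫ adj.counit.app (injSC F).X₃) := inferInstanceAs (IsIso φ.τ₃)
  exact IsIso.of_isIso_comp_right (shfMap J (quotMap F)) (adj.counit.app (injSC F).X₃)

variable (Y) in
theorem cxMap_bijective {P Q : Cᵒᵖ ⥤ AddCommGrpCat.{u}} (φ : P ⟶ Q) (n : ℕ)
    (h : ∀ a : Fin (n + 1) → ι, Function.Bijective (φ.app (op (∏ᶜ fun k => Y (a k)).left))) :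
    Function.Bijective (((cxFunctor Y).map φ).f n) := by
  refine ⟨fun x y hxy => EtCechInjLib.comp_ext Y (res P) fun a => (h a).1 ?_, fun z => ?_⟩
  · refine (EtCechInjLib.comp_map Y (Functor.whiskerLeft (Over.forget U).op φ) n a x).symm.trans ?_
    exact (congrArg (EtCechInjLib.comp Y (res Q) n a) hxy).trans
      (EtCechInjLib.comp_map Y (Functor.whiskerLeft (Over.forget U).op φ) n a y)
  · choose u hu using fun a => (h a).2 (EtCechInjLib.comp Y (res Q) n a z)
    obtain ⟨x, hx⟩ := EtCechInjLib.exists_comp_eq Y (res P) n u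
    refine ⟨x, EtCechInjLib.comp_ext Y (res Q) fun a => ?_⟩
    refine (EtCechInjLib.comp_map Y (Functor.whiskerLeft (Over.forget U).op φ) n a x).trans ?_
    rw [hx]
    exact hu a

variable (Y) in
theorem cechHMap_zero_injective {P Q : Cᵒᵖ ⥤ AddCommGrpCat.{u}} (φ : P ⟶ Q)
    (h : ∀ a : Fin 1 → ι, Function.Injective (φ.app (op (∏ᶜ fun k => Y (a k)).left))) :
    Function.Injective (cechHMap Y φ 0) := fun x y hxy => toCochain_injective Y P (by
  refine EtCechInjLib.comp_ext Y (res P) fun a => h a ?_
  refine (EtCechInjLib.comp_map Y (Functor.whiskerLeft (Over.forget U).op φ) 0 a _).symm.trans ?_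
  refine Eq.trans ?_ (EtCechInjLib.comp_map Y (Functor.whiskerLeft (Over.forget U).op φ) 0 a _)
  exact congrArg (EtCechInjLib.comp Y (res Q) 0 a)
    (((toCochain_map Y φ x).symm.trans (congrArg (toCochain Y Q) hxy)).trans (toCochain_map Y φ y)))

variable (Y) in
theorem cechHMap_bijective {P Q : Cᵒᵖ ⥤ AddCommGrpCat.{u}} (φ : P ⟶ Q)
    (h : ∀ (n : ℕ) (a : Fin (n + 1) → ι), Function.Bijective (φ.app (op (∏ᶜ fun k => Y (a k)).left))) (p : ℕ) :
    Function.Bijective (cechHMap Y φ p) := by
  haveI : ∀ n, IsIso (((cxFunctor Y).map φ).f n) := fun n =>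
    (ConcreteCategory.isIso_iff_bijective _).2 (cxMap_bijective Y φ n (h n))
  haveI : IsIso ((cxFunctor Y).map φ) := HomologicalComplex.Hom.isIso_of_components _
  exact ConcreteCategory.bijective_of_isIso (HomologicalComplex.homologyMap ((cxFunctor Y).map φ) p)

variable (he : IsEdge J Y e)

include he in
theorem sheaf_zero_bijective : Function.Bijective (e F.obj 0) := by
  haveI : IsIso (toSheafify J F.obj) := isIso_toSheafify J F.property
  have hb := toCech_bij (Y := Y) F he.cover
  have h : Function.Bijective fun s => e F.obj 0 (toCech Y F.obj s) := by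
    simp only [he.zero]
    exact (sectH0 J U (shf J F.obj)).bijective.comp
      (ConcreteCategory.bijective_of_isIso ((toSheafify J F.obj).app (op U)))
  exact (Function.Bijective.of_comp_iff _ hb).1 h

include he in
theorem injective_surjective (p : ℕ) [Injective F] : Function.Surjective (e F.obj p) := by
  cases p with
  | zero => exact (sheaf_zero_bijective F he).2
  | succ p =>
    let c : shf J F.obj ⟶ F := (sheafificationAdjunction J AddCommGrpCat.{u}).counit.app F
    haveI : IsIso c := inferInstanceAs (IsIso ((sheafificationAdjunction J AddCommGrpCat.{u}).counit.app F))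
    haveI : Subsingleton (CohSite.HU F (p + 1) U) := subsingleton_ext_injective _ F p
    haveI : Subsingleton (CohSite.HU (shf J F.obj) (p + 1) U) := (HUmap_bijective c (p + 1) U).1.subsingleton
    exact fun z => ⟨0, Subsingleton.elim _ _⟩

include he in
theorem quot_step_injective (p : ℕ) (hinj : Function.Injective (e (quotPsh F) p)) :
    Function.Injective (e F.obj (p + 1)) := by
  have hS := pshSC_shortExact F
  let hT := hS.map_of_exact (presheafToSheaf J AddCommGrpCat.{u})
  rw [injective_iff_map_eq_zero]
  intro x hx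
  haveI := CohLib.injective_presheaf (Injective.under F)
  haveI : Epi ((cechDelta Y).δ hS p) := (cechDelta Y).epi_δ hS p (cechDelta_effaceable Y _ inferInstance p)
  obtain ⟨y, rfl⟩ := (AddCommGrpCat.epi_iff_surjective ((cechDelta Y).δ hS p)).1 inferInstance x
  have h1 : extδ hT U p (e (quotPsh F) p y) = 0 := (he.delta _ hS (hexact Y hS) p y).symm.trans hx
  obtain ⟨w, hw⟩ := Abelian.Ext.covariant_sequence_exact₃ (CohCx.freeSheaf J U) hT (e (quotPsh F) p y)
    (n₁ := p + 1) rfl h1
  obtain ⟨v, rfl⟩ := injective_surjective (Injective.under F) he p w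
  have h2 : y = cechHMap Y (toQuot F) p v := hinj ((hw.symm.trans (he.natural _ _ (toQuot F) p v).symm))
  rw [h2]
  exact congr($((cechDelta Y).map_comp_δ hS p) v)

include he in
theorem quot_step_surjective (p : ℕ) (hsurj : Function.Surjective (e (quotPsh F) p)) :
    Function.Surjective (e F.obj (p + 1)) := by
  have hS := pshSC_shortExact F
  let hT := hS.map_of_exact (presheafToSheaf J AddCommGrpCat.{u})
  intro z
  let c : shf J (Injective.under F).obj ⟶ Injective.under F :=
    (sheafificationAdjunction J AddCommGrpCat.{u}).counit.app (Injective.under F)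
  haveI : IsIso c := inferInstanceAs (IsIso ((sheafificationAdjunction J AddCommGrpCat.{u}).counit.app (Injective.under F)))
  haveI : Subsingleton (CohSite.HU (Injective.under F) (p + 1) U) := subsingleton_ext_injective _ _ p
  haveI : Subsingleton (CohSite.HU (shf J (Injective.under F).obj) (p + 1) U) :=
    (HUmap_bijective c (p + 1) U).1.subsingleton
  obtain ⟨w, hw⟩ := Abelian.Ext.covariant_sequence_exact₁ (CohCx.freeSheaf J U) hT z
    (@Subsingleton.elim (CohSite.HU (shf J (Injective.under F).obj) (p + 1) U) _ _ _) (n₀ := p) rfl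
  obtain ⟨y, rfl⟩ := hsurj w
  exact ⟨_, (he.delta _ hS (hexact Y hS) p y).trans hw⟩

include he in
theorem quot_zero_injective : Function.Injective (e (quotPsh F) 0) := fun x y hxy => by
  refine cechHMap_zero_injective Y (quotMap F) (fun a => quotMap_injective F _) ?_
  refine (sheaf_zero_bijective (injSC F).X₃ he).1 ?_
  rw [he.natural, he.natural, hxy]

include he in
theorem edge_one_injective : Function.Injective (e F.obj 1) :=
  quot_step_injective F he 0 (quot_zero_injective F he)

include he in
theorem edge_bijective_of_acyclic (p : ℕ)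
    (h : ∀ (n : ℕ) (a : Fin (n + 1) → ι) (q : ℕ), Subsingleton (CohSite.HU F (q + 1) (∏ᶜ fun k => Y (a k)).left)) :
    Function.Bijective (e F.obj p) := by
  induction p generalizing F with
  | zero => exact sheaf_zero_bijective F he
  | succ p ih =>
    have hQ : ∀ (n : ℕ) (a : Fin (n + 1) → ι) (q : ℕ),
        Subsingleton (CohSite.HU (injSC F).X₃ (q + 1) (∏ᶜ fun k => Y (a k)).left) := fun n a q => by
      let Z := (presheafToSheaf J AddCommGrpCat.{u}).obj
        (yoneda.obj (∏ᶜ fun k => Y (a k)).left ⋙ AddCommGrpCat.free.{u})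
      haveI : Subsingleton (Abelian.Ext Z (injSC F).X₁ (q + 1 + 1)) := h n a (q + 1)
      haveI : Subsingleton (Abelian.Ext Z (injSC F).X₂ (q + 1)) := subsingleton_ext_injective _ (Injective.under F) q
      exact subsingleton_ext_of_shift' (injSC_shortExact F) (X := Z)
    have hb : ∀ (n : ℕ) (a : Fin (n + 1) → ι),
        Function.Bijective ((quotMap F).app (op (∏ᶜ fun k => Y (a k)).left)) := fun n a => by
      haveI := h n a 0
      exact ⟨quotMap_injective F _, quotMap_surjective F _⟩
    haveI := isIso_shfMap_quotMap F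
    have hP : Function.Bijective (e (quotPsh F) p) := by
      have h1 : ⇑(e (injSC F).X₃.obj p) ∘ ⇑(cechHMap Y (quotMap F) p) =
          ⇑(HUmap (shfMap J (quotMap F)) p U) ∘ ⇑(e (quotPsh F) p) :=
        funext fun x => he.natural _ _ (quotMap F) p x
      refine (Function.Bijective.of_comp_iff' (HUmap_bijective (shfMap J (quotMap F)) p U) _).1 ?_
      rw [← h1]
      exact (ih (injSC F).X₃ hQ).comp (cechHMap_bijective Y (quotMap F) hb p)
    exact ⟨quot_step_injective F he p hP.1, quot_step_surjective F he p hP.2⟩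

include he in
theorem edgeSh_bijective_of (p : ℕ) (h : Function.Bijective (e F.obj p)) : Function.Bijective (edgeSh e F p) :=
  (HUmap_bijective ((sheafificationAdjunction J AddCommGrpCat.{u}).counit.app F) p U).comp h

include he in
theorem edgeSh_one_injective : Function.Injective (edgeSh e F 1) :=
  (HUmap_bijective ((sheafificationAdjunction J AddCommGrpCat.{u}).counit.app F) 1 U).1.comp
    (edge_one_injective F he)

end CechEdgeLib
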