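import Groth.Agent.CechEdgeLib.Zero
import Groth.Agent.LocCohLib.Delta
import Mathlib.Algebra.Homology.DerivedCategory.Ext.ExactSequences

/-!
# The comparison of two delta functors
-/

set_option autoImplicit false
set_option backward.isDefEq.respectTransparency false
set_option backward.isDefEq.respectTransparency.types false
universe v v' u u'

open CategoryTheory CategoryTheory.Limits Opposite CechEdge LocCohLib

noncomputable section

namespace CechEdgeLib

section Abstract

variable {A : Type u} [Category.{v} A] [Abelian A] [EnoughInjectives A] {B : Type u'} [Category.{v'} B] [Abelian B]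
  {T T' : DeltaFun A B}

/-- the extension to all degrees -/
def allHom (h : T.Effaceable) (α : T.F 0 ⟶ T'.F 0) : ∀ i, T.F i ⟶ T'.F i
  | 0 => α
  | i + 1 => DeltaFun.succHom h i (allHom h α i)

theorem δ_succHom (h : T.Effaceable) (i : ℕ) (α : T.F i ⟶ T'.F i) {S : ShortComplex A} (hS : S.ShortExact) :
    T.δ hS i ≫ (DeltaFun.succHom h i α).app S.X₁ = α.app S.X₃ ≫ T'.δ hS i := by
  haveI := hS.mono_f
  haveI := hS.epi_g
  let hu := DeltaFun.under_shortExact S.X₁
  let a : S.X₂ ⟶ Injective.under S.X₁ := Injective.factorThru (Injective.ι S.X₁) S.f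
  have ha : S.f ≫ a = Injective.ι S.X₁ := Injective.comp_factorThru _ _
  let b : S.X₃ ⟶ cokernel (Injective.ι S.X₁) := hS.exact.desc (a ≫ cokernel.π _) (by
    rw [← Category.assoc, ha, cokernel.condition])
  let φ : S ⟶ DeltaFun.under A S.X₁ := ShortComplex.homMk (𝟙 _) a b (by simp [DeltaFun.under, ha])
    (hS.exact.g_desc _ _).symm
  have e1 := T.δ_natural hS hu φ i
  have e2 := T'.δ_natural hS hu φ i
  have i1 : (T.F (i + 1)).map φ.τ₁ = 𝟙 _ := (T.F (i + 1)).map_id _
  have i2 : (T'.F (i + 1)).map φ.τ₁ = 𝟙 _ := (T'.F (i + 1)).map_id _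
  rw [i1, Category.comp_id] at e1
  rw [i2, Category.comp_id] at e2
  rw [e1, e2]
  show ((T.F i).map b ≫ T.δ hu i) ≫ DeltaFun.succApp h i α S.X₁ = α.app S.X₃ ≫ (T'.F i).map b ≫ T'.δ hu i
  rw [Category.assoc]
  refine (congrArg ((T.F i).map b ≫ ·) (DeltaFun.δ_succApp h i α S.X₁)).trans ?_
  exact α.naturality_assoc b _

theorem δ_allHom (h : T.Effaceable) (α : T.F 0 ⟶ T'.F 0) (i : ℕ) {S : ShortComplex A} (hS : S.ShortExact) :
    T.δ hS i ≫ (allHom h α (i + 1)).app S.X₁ = (allHom h α i).app S.X₃ ≫ T'.δ hS i :=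
  δ_succHom h i _ hS

theorem hom_unique (h : T.Effaceable) (β γ : ∀ i, ∀ M : A, (T.F i).obj M ⟶ (T'.F i).obj M)
    (h0 : ∀ M, β 0 M = γ 0 M)
    (hβ : ∀ i {S : ShortComplex A} (hS : S.ShortExact), T.δ hS i ≫ β (i + 1) S.X₁ = β i S.X₃ ≫ T'.δ hS i)
    (hγ : ∀ i {S : ShortComplex A} (hS : S.ShortExact), T.δ hS i ≫ γ (i + 1) S.X₁ = γ i S.X₃ ≫ T'.δ hS i) :
    ∀ i M, β i M = γ i M
  | 0, M => h0 M
  | i + 1, M => by
    haveI : Epi (T.δ (DeltaFun.under_shortExact M) i) :=
      T.epi_δ _ i (h _ (inferInstanceAs (Injective (Injective.under M))) i)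
    refine (cancel_epi (T.δ (DeltaFun.under_shortExact M) i)).1 ?_
    refine (hβ i _).trans (Eq.trans ?_ (hγ i _).symm)
    rw [hom_unique h β γ h0 hβ hγ i]

end Abstract

section Site

universe w

variable {C : Type w} [SmallCategory C] [HasPullbacks C] (J : GrothendieckTopology C) {U : C} {ι : Type w}
  (Y : ι → Over U)

instance enoughInjectives_presheaf : EnoughInjectives (Cᵒᵖ ⥤ AddCommGrpCat.{w}) :=
  EnoughInjectives.of_equivalence (sheafBotEquivalence AddCommGrpCat.{w}).inverse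

theorem hexact {S : ShortComplex (Cᵒᵖ ⥤ AddCommGrpCat.{w})} (hS : S.ShortExact) :
    (S.map (cxFunctor Y)).ShortExact :=
  EtCechInjLib.shortExact_cx Y
    (hS.map_of_exact ((Functor.whiskeringLeft (Over U)ᵒᵖ Cᵒᵖ AddCommGrpCat.{w}).obj (Over.forget U).op))

/-- Čech cohomology as a delta functor on presheaves -/
def cechDelta : DeltaFun (Cᵒᵖ ⥤ AddCommGrpCat.{w}) AddCommGrpCat.{w} :=
  EtCechInjLib.ofNatCx (cxFunctor Y) (hexact Y)

theorem cechDelta_effaceable : (cechDelta Y).Effaceable := fun I hI i =>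
  haveI := hI
  EtCechInjLib.isZero_cechH_injective Y I i

variable (U)

/-- cohomology of the associated sheaf as a delta functor on presheaves -/
def shfDelta : DeltaFun (Cᵒᵖ ⥤ AddCommGrpCat.{w}) AddCommGrpCat.{w} where
  F i := presheafToSheaf J AddCommGrpCat.{w} ⋙ Sheaf.cohomologyPresheafFunctor J i ⋙
    (evaluation Cᵒᵖ AddCommGrpCat.{w}).obj (op U)
  preservesZero i := ⟨fun P Q => by
    ext x
    show Abelian.Ext.comp x (Abelian.Ext.mk₀ ((presheafToSheaf J AddCommGrpCat.{w}).map (0 : P ⟶ Q))) (add_zero i) = 0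
    rw [Functor.map_zero, Abelian.Ext.mk₀_zero, Abelian.Ext.comp_zero]⟩
  δ hS i := AddCommGrpCat.ofHom (extδ (hS.map_of_exact (presheafToSheaf J AddCommGrpCat.{w})) U i)
  δ_natural {S S'} hS hS' φ i := by
    ext x
    let G := presheafToSheaf J AddCommGrpCat.{w}
    show Abelian.Ext.comp (Abelian.Ext.comp x (hS.map_of_exact G).extClass rfl) (Abelian.Ext.mk₀ (G.map φ.τ₁))
        (add_zero _) =
      Abelian.Ext.comp (Abelian.Ext.comp x (Abelian.Ext.mk₀ (G.map φ.τ₃)) (add_zero _))
        (hS'.map_of_exact G).extClass rfl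
    rw [Abelian.Ext.comp_assoc_of_third_deg_zero, Abelian.Ext.comp_assoc_of_second_deg_zero]
    exact congrArg (fun y => Abelian.Ext.comp x y rfl)
      (ShortComplex.ShortExact.extClass_naturality _ _ (G.mapShortComplex.map φ))
  map_comp_δ {S} hS i := by
    ext x
    let G := presheafToSheaf J AddCommGrpCat.{w}
    show Abelian.Ext.comp (Abelian.Ext.comp x (Abelian.Ext.mk₀ (S.map G).g) (add_zero _))
      (hS.map_of_exact G).extClass rfl = 0
    rw [Abelian.Ext.comp_assoc_of_second_deg_zero, ShortComplex.ShortExact.comp_extClass, Abelian.Ext.comp_zero]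
  δ_comp_map {S} hS i := by
    ext x
    let G := presheafToSheaf J AddCommGrpCat.{w}
    show Abelian.Ext.comp (Abelian.Ext.comp x (hS.map_of_exact G).extClass rfl)
      (Abelian.Ext.mk₀ (S.map G).f) (add_zero _) = 0
    rw [Abelian.Ext.comp_assoc_of_third_deg_zero, ShortComplex.ShortExact.extClass_comp, Abelian.Ext.comp_zero]
  exact₁ hS i := Abelian.Ext.covariant_sequence_exact₁' (CohCx.freeSheaf J U)
    (hS.map_of_exact (presheafToSheaf J AddCommGrpCat.{w})) i (i + 1) rfl
  exact₂ hS i := Abelian.Ext.covariant_sequence_exact₂' (CohCx.freeSheaf J U)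
    (hS.map_of_exact (presheafToSheaf J AddCommGrpCat.{w})) i
  exact₃ hS i := Abelian.Ext.covariant_sequence_exact₃' (CohCx.freeSheaf J U)
    (hS.map_of_exact (presheafToSheaf J AddCommGrpCat.{w})) i (i + 1) rfl
  mono₀ {S} hS := by
    haveI := (hS.map_of_exact (presheafToSheaf J AddCommGrpCat.{w})).mono_f
    exact (AddCommGrpCat.mono_iff_injective _).2
      (Abelian.Ext.postcomp_mk₀_injective_of_mono (CohCx.freeSheaf J U) (S.map (presheafToSheaf J AddCommGrpCat.{w})).f)

end Site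

end CechEdgeLib
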