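import Groth.Agent.CechEdgeLib.Delta
import Groth.Prelude.Def_CohCx

/-!
# Edge maps
-/

set_option autoImplicit false
set_option backward.isDefEq.respectTransparency false
set_option backward.isDefEq.respectTransparency.types false
universe u

open CategoryTheory CategoryTheory.Limits Opposite CechEdge

noncomputable section

namespace CechEdgeLib

variable {C : Type u} [SmallCategory C] [HasPullbacks C] {J : GrothendieckTopology C} {U : C} {ι : Type u}
  {Y : ι → Over U}

theorem cechHMap_comp {P Q R : Cᵒᵖ ⥤ AddCommGrpCat.{u}} (φ : P ⟶ Q) (ψ : Q ⟶ R) (p : ℕ)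
    (x : CohCx.cechH P Y p) : cechHMap Y (φ ≫ ψ) p x = cechHMap Y ψ p (cechHMap Y φ p x) :=
  ConcreteCategory.congr_hom ((cxFunctor Y ⋙ HomologicalComplex.homologyFunctor _ _ p).map_comp φ ψ) x

theorem sectH0_natural {F G : Sheaf J AddCommGrpCat.{u}} (ψ : F ⟶ G) (s : F.obj.obj (op U)) :
    HUmap ψ 0 U (sectH0 J U F s) = sectH0 J U G (ψ.hom.app (op U) s) := by
  obtain ⟨g, rfl⟩ := (CohFree.homEquivSect J U F).surjective s
  show Abelian.Ext.comp (sectH0 J U F (CohFree.homEquivSect J U F g)) (Abelian.Ext.mk₀ ψ) (add_zero 0) = _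
  have e : ∀ {H : Sheaf J AddCommGrpCat.{u}} (h : CohCx.freeSheaf J U ⟶ H),
      sectH0 J U H (CohFree.homEquivSect J U H h) = Abelian.Ext.mk₀ h := fun {H} h =>
    congrArg (fun z => (Abelian.Ext.addEquiv₀.symm z : Abelian.Ext (CohCx.freeSheaf J U) H 0))
      ((CohFree.homEquivSect J U H).symm_apply_apply h)
  rw [e, Abelian.Ext.mk₀_comp_mk₀, ← e]
  rfl

theorem toCech_bij (F : Sheaf J AddCommGrpCat.{u})
    (hY : Sieve.ofArrows (fun i => (Y i).left) (fun i => (Y i).hom) ∈ J U) :
    Function.Bijective (toCech Y F.obj) :=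
  toCech_bijective_of_isSheaf Y F.obj F.property hY

/-- classes of degree zero as sections of the associated sheaf -/
def secZero (hY : Sieve.ofArrows (fun i => (Y i).left) (fun i => (Y i).hom) ∈ J U)
    (P : Cᵒᵖ ⥤ AddCommGrpCat.{u}) (x : CohCx.cechH P Y 0) : (shf J P).obj.obj (op U) :=
  (Equiv.ofBijective _ (toCech_bij (shf J P) hY)).symm (cechHMap Y (toSheafify J P) 0 x)

theorem toCech_secZero (hY : Sieve.ofArrows (fun i => (Y i).left) (fun i => (Y i).hom) ∈ J U)
    (P : Cᵒᵖ ⥤ AddCommGrpCat.{u}) (x : CohCx.cechH P Y 0) :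
    toCech Y (shf J P).obj (secZero hY P x) = cechHMap Y (toSheafify J P) 0 x :=
  (Equiv.ofBijective _ (toCech_bij (shf J P) hY)).apply_symm_apply _

theorem secZero_eq (hY : Sieve.ofArrows (fun i => (Y i).left) (fun i => (Y i).hom) ∈ J U)
    (P : Cᵒᵖ ⥤ AddCommGrpCat.{u}) {x : CohCx.cechH P Y 0} {s : (shf J P).obj.obj (op U)}
    (h : cechHMap Y (toSheafify J P) 0 x = toCech Y (shf J P).obj s) : secZero hY P x = s :=
  (toCech_bij (shf J P) hY).1 ((toCech_secZero hY P x).trans h)

theorem secZero_add (hY : Sieve.ofArrows (fun i => (Y i).left) (fun i => (Y i).hom) ∈ J U)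
    (P : Cᵒᵖ ⥤ AddCommGrpCat.{u}) (x y : CohCx.cechH P Y 0) :
    secZero hY P (x + y) = secZero hY P x + secZero hY P y :=
  secZero_eq hY P (by rw [map_add, map_add, toCech_secZero, toCech_secZero])

theorem secZero_natural (hY : Sieve.ofArrows (fun i => (Y i).left) (fun i => (Y i).hom) ∈ J U)
    {P Q : Cᵒᵖ ⥤ AddCommGrpCat.{u}} (φ : P ⟶ Q) (x : CohCx.cechH P Y 0) :
    secZero hY Q (cechHMap Y φ 0 x) = (shfMap J φ).hom.app (op U) (secZero hY P x) := by
  refine secZero_eq hY Q ?_
  rw [← cechHMap_comp, toSheafify_naturality, cechHMap_comp, ← toCech_secZero hY P x, toCech_natural]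

/-- the comparison in degree zero -/
def zeroHom (hY : Sieve.ofArrows (fun i => (Y i).left) (fun i => (Y i).hom) ∈ J U) :
    (cechDelta Y).F 0 ⟶ (shfDelta J U).F 0 where
  app P := AddCommGrpCat.ofHom (AddMonoidHom.mk' (fun x => sectH0 J U (shf J P) (secZero hY P x))
    fun x y => (congrArg _ (secZero_add hY P x y)).trans (map_add _ _ _))
  naturality P Q φ := by
    ext x
    show sectH0 J U (shf J Q) (secZero hY Q (cechHMap Y φ 0 x)) =
      HUmap (shfMap J φ) 0 U (sectH0 J U (shf J P) (secZero hY P x))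
    rw [secZero_natural, sectH0_natural]

theorem exists_isEdge (hY : Sieve.ofArrows (fun i => (Y i).left) (fun i => (Y i).hom) ∈ J U) :
    ∃ e : ∀ (P : Cᵒᵖ ⥤ AddCommGrpCat.{u}) (p : ℕ), CohCx.cechH P Y p →+ CohSite.HU (shf J P) p U,
      IsEdge J Y e := by
  let a := allHom (cechDelta_effaceable Y) (T' := shfDelta J U) (zeroHom hY)
  refine ⟨fun P p => ((a p).app P).hom, hY, fun P s => ?_, fun P Q φ p x => ?_, fun S hS hC p x => ?_⟩
  · show sectH0 J U (shf J P) (secZero hY P (toCech Y P s)) = _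
    rw [secZero_eq hY P (s := (toSheafify J P).app (op U) s) (toCech_natural Y (toSheafify J P) s)]
  · exact ConcreteCategory.congr_hom ((a p).naturality φ) x
  · exact ConcreteCategory.congr_hom (δ_allHom (cechDelta_effaceable Y) (T' := shfDelta J U) (zeroHom hY) p hS) x

theorem isIso_shfMap_toSheafify (P : Cᵒᵖ ⥤ AddCommGrpCat.{u}) : IsIso (shfMap J (toSheafify J P)) :=
  (sheafificationAdjunction J AddCommGrpCat.{u}).left_triangle_components P |> fun h => by
    haveI : IsIso ((sheafificationAdjunction J AddCommGrpCat.{u}).counit.app (shf J P)) := inferInstance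
    exact IsIso.of_isIso_fac_right h

theorem HUmap_comp {F G H : Sheaf J AddCommGrpCat.{u}} (φ : F ⟶ G) (ψ : G ⟶ H) (p : ℕ)
    (x : CohSite.HU F p U) : HUmap (φ ≫ ψ) p U x = HUmap ψ p U (HUmap φ p U x) :=
  ConcreteCategory.congr_hom (NatTrans.congr_app ((Sheaf.cohomologyPresheafFunctor J p).map_comp φ ψ) (op U)) x

theorem HUmap_bijective {F G : Sheaf J AddCommGrpCat.{u}} (ψ : F ⟶ G) [IsIso ψ] (p : ℕ) (V : C) :
    Function.Bijective (HUmap ψ p V) :=
  ConcreteCategory.bijective_of_isIso (((Sheaf.cohomologyPresheafFunctor J p).map ψ).app (op V))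

variable {e e' : ∀ (P : Cᵒᵖ ⥤ AddCommGrpCat.{u}) (p : ℕ), CohCx.cechH P Y p →+ CohSite.HU (shf J P) p U}

theorem zero_unique (he : IsEdge J Y e) (he' : IsEdge J Y e') (P : Cᵒᵖ ⥤ AddCommGrpCat.{u})
    (x : CohCx.cechH P Y 0) : e P 0 x = e' P 0 x := by
  haveI := isIso_shfMap_toSheafify (J := J) P
  refine (HUmap_bijective (shfMap J (toSheafify J P)) 0 U).1 ?_
  rw [← he.natural, ← he'.natural, ← toCech_secZero he.cover P x, he.zero, he'.zero]

theorem isEdge_unique (he : IsEdge J Y e) (he' : IsEdge J Y e') : e = e' := by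
  have key := hom_unique (T := cechDelta Y) (T' := shfDelta J U) (cechDelta_effaceable Y)
    (fun i P => AddCommGrpCat.ofHom (e P i)) (fun i P => AddCommGrpCat.ofHom (e' P i))
    (fun P => by ext x; exact zero_unique he he' P x)
    (fun i S hS => by ext x; exact he.delta S hS (hexact Y hS) i x)
    (fun i S hS => by ext x; exact he'.delta S hS (hexact Y hS) i x)
  funext P p
  exact AddMonoidHom.ext fun x => ConcreteCategory.congr_hom (key p P) x

section Refine

variable {κ : Type u} {Z : κ → Over U} (f : FormalCoproduct.mk ι Y ⟶ FormalCoproduct.mk κ Z)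

/-- the refinement as a transformation of Čech complex functors -/
def refineNat : cxFunctor Z ⟶ cxFunctor Y where
  app P := CohCx.cechRefine P f
  naturality P Q φ := by
    rw [CohCx.cechRefine, CohCx.cechRefine]
    exact ((AlgebraicTopology.alternatingCofaceMapComplex AddCommGrpCat.{u}).map_comp _ _).symm.trans
      ((congrArg _ (NatTrans.naturality _ _)).trans
        ((AlgebraicTopology.alternatingCofaceMapComplex AddCommGrpCat.{u}).map_comp _ _))

theorem toCech₀_refine (P : Cᵒᵖ ⥤ AddCommGrpCat.{u}) :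
    toCech₀ P Z ≫ (CohCx.cechRefine P f).f 0 = toCech₀ P Y := by
  refine Pi.hom_ext _ _ fun a => ?_
  erw [Category.assoc, Pi.lift_π, Pi.lift_π_assoc]
  refine Eq.trans ?_ (Pi.lift_π (fun (i : Fin 1 → ι) => P.map (∏ᶜ (Y ∘ i)).hom.op) a).symm
  change P.map _ ≫ P.map _ = P.map _
  rw [← P.map_comp]
  congr 1
  exact congrArg Quiver.Hom.op (Over.w _)

theorem toCech_refine (P : Cᵒᵖ ⥤ AddCommGrpCat.{u}) (s : P.obj (op U)) :
    (HomologicalComplex.homologyMap (CohCx.cechRefine P f) 0).hom (toCech Z P s) = toCech Y P s := by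
  show (toCycles P Z ≫ (cx P Z).homologyπ 0 ≫ HomologicalComplex.homologyMap (CohCx.cechRefine P f) 0) s =
    (toCycles P Y ≫ (cx P Y).homologyπ 0) s
  have h : toCycles P Z ≫ HomologicalComplex.cyclesMap (CohCx.cechRefine P f) 0 = toCycles P Y := by
    rw [← cancel_mono ((cx P Y).iCycles 0)]
    refine (Category.assoc _ _ _).trans ?_
    rw [toCycles_i]
    refine (congrArg (toCycles P Z ≫ ·) (HomologicalComplex.cyclesMap_i (CohCx.cechRefine P f) 0)).trans ?_
    exact (Category.assoc _ _ _).symm.trans ((congrArg (· ≫ _) (toCycles_i P Z)).trans (toCech₀_refine f P))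
  refine congrArg (fun k : P.obj (op U) ⟶ (cx P Y).homology 0 => k s) ?_
  refine (congrArg (toCycles P Z ≫ ·) (HomologicalComplex.homologyπ_naturality (CohCx.cechRefine P f) 0)).trans ?_
  rw [← h]
  exact (Category.assoc _ _ _).symm

theorem isEdge_refine (hZ : Sieve.ofArrows (fun i => (Z i).left) (fun i => (Z i).hom) ∈ J U) (he : IsEdge J Y e) :
    IsEdge J Z fun P p => (e P p).comp (HomologicalComplex.homologyMap (CohCx.cechRefine P f) p).hom where
  cover := hZ
  zero P s := (congrArg (e P 0) (toCech_refine f P s)).trans (he.zero P s)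
  natural P Q φ p x := by
    refine Eq.trans ?_ (he.natural P Q φ p _)
    exact congrArg (e Q p) (ConcreteCategory.congr_hom
      ((Functor.whiskerRight (refineNat f) (HomologicalComplex.homologyFunctor _ _ p)).naturality φ) x)
  delta S hS hC p x := by
    refine Eq.trans ?_ (he.delta S hS (hexact Y hS) p _)
    exact congrArg (e S.X₁ (p + 1)) (ConcreteCategory.congr_hom
      (HomologicalComplex.HomologySequence.δ_naturality (S.mapNatTrans (refineNat f)) hC (hexact Y hS) p (p + 1) rfl) x)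

end Refine

end CechEdgeLib
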