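import Groth.Prelude.Def_CechEdge
import Groth.Agent.EtCechInjLib.Delta
import Mathlib.CategoryTheory.Sites.SheafOfTypes

/-!
# Čech cohomology in degree zero
-/

set_option autoImplicit false
set_option backward.isDefEq.respectTransparency false
set_option backward.isDefEq.respectTransparency.types false
universe u

open CategoryTheory CategoryTheory.Limits Opposite CechEdge
open EtCechInjLib (M comp ev)

noncomputable section

namespace CechEdgeLib

variable {C : Type u} [SmallCategory C] [HasPullbacks C] {U : C} {ι : Type u} (Y : ι → Over U)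

/-- the presheaf on objects over `U` -/
abbrev res (P : Cᵒᵖ ⥤ AddCommGrpCat.{u}) : (Over U)ᵒᵖ ⥤ AddCommGrpCat.{u} := (Over.forget U).op ⋙ P

/-- a class of degree zero as a cochain -/
def toCochain (P : Cᵒᵖ ⥤ AddCommGrpCat.{u}) : CohCx.cechH P Y 0 ⟶ (cx P Y).X 0 :=
  (CochainComplex.isoHomologyπ₀ (cx P Y)).inv ≫ (cx P Y).iCycles 0

theorem mono_toCochain (P : Cᵒᵖ ⥤ AddCommGrpCat.{u}) : Mono (toCochain Y P) := mono_comp _ _

theorem toCochain_injective (P : Cᵒᵖ ⥤ AddCommGrpCat.{u}) : Function.Injective (toCochain Y P) :=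
  (AddCommGrpCat.mono_iff_injective _).1 (mono_toCochain Y P)

theorem toCochain_toCech (P : Cᵒᵖ ⥤ AddCommGrpCat.{u}) (s : P.obj (op U)) :
    toCochain Y P (toCech Y P s) = toCech₀ P Y s := by
  show ((toCycles P Y ≫ (cx P Y).homologyπ 0) ≫ toCochain Y P) s = _
  rw [toCochain, Category.assoc, show (cx P Y).homologyπ 0 = (CochainComplex.isoHomologyπ₀ (cx P Y)).hom from rfl,
    Iso.hom_inv_id_assoc, toCycles_i]

theorem toCochain_map {P Q : Cᵒᵖ ⥤ AddCommGrpCat.{u}} (φ : P ⟶ Q) (x : CohCx.cechH P Y 0) :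
    toCochain Y Q (cechHMap Y φ 0 x) = ((cxFunctor Y).map φ).f 0 (toCochain Y P x) := by
  show (HomologicalComplex.homologyMap ((cxFunctor Y).map φ) 0 ≫ toCochain Y Q) x =
    (toCochain Y P ≫ ((cxFunctor Y).map φ).f 0) x
  congr 2
  have h : HomologicalComplex.homologyMap ((cxFunctor Y).map φ) 0 ≫ (CochainComplex.isoHomologyπ₀ (cx Q Y)).inv =
      (CochainComplex.isoHomologyπ₀ (cx P Y)).inv ≫ HomologicalComplex.cyclesMap ((cxFunctor Y).map φ) 0 := by
    rw [Iso.comp_inv_eq, Category.assoc, Iso.eq_inv_comp]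
    exact HomologicalComplex.homologyπ_naturality ((cxFunctor Y).map φ) 0
  rw [toCochain, toCochain]
  refine ((Category.assoc _ _ _).symm.trans ((congrArg (· ≫ _) h).trans ?_))
  rw [Category.assoc, Category.assoc]
  exact congrArg (_ ≫ ·) (HomologicalComplex.cyclesMap_i ((cxFunctor Y).map φ) 0)

theorem exists_cl (P : Cᵒᵖ ⥤ AddCommGrpCat.{u}) (x : (cx P Y).X 0) (hx : (cx P Y).d 0 1 x = 0) :
    ∃ c, toCochain Y P c = x := by
  let S := ShortComplex.mk ((cx P Y).iCycles 0) ((cx P Y).d 0 1) (HomologicalComplex.iCycles_d _ _ _)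
  have hS : S.Exact :=
    ShortComplex.exact_of_f_is_kernel _ ((cx P Y).cyclesIsKernel 0 1 (by simp))
  obtain ⟨z, hz⟩ := (ShortComplex.ab_exact_iff S).1 hS x hx
  refine ⟨(CochainComplex.isoHomologyπ₀ (cx P Y)).hom z, ?_⟩
  show ((CochainComplex.isoHomologyπ₀ (cx P Y)).hom ≫ toCochain Y P) z = x
  rw [toCochain, Iso.hom_inv_id_assoc]
  exact hz

theorem d_toCochain (P : Cᵒᵖ ⥤ AddCommGrpCat.{u}) (c : CohCx.cechH P Y 0) :
    (cx P Y).d 0 1 (toCochain Y P c) = 0 := by
  show (toCochain Y P ≫ (cx P Y).d 0 1) c = 0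
  rw [toCochain, Category.assoc, HomologicalComplex.iCycles_d, comp_zero]
  rfl

theorem comp_toCech₀ (P : Cᵒᵖ ⥤ AddCommGrpCat.{u}) (s : P.obj (op U)) (a : Fin 1 → ι) :
    comp Y (res P) 0 a (toCech₀ P Y s) = P.map (∏ᶜ (Y ∘ a)).hom.op s := by
  show (toCech₀ P Y ≫ Pi.π _ a) s = _
  erw [Pi.lift_π]
  rfl

theorem ev_toCech₀ (P : Cᵒᵖ ⥤ AddCommGrpCat.{u}) (s : P.obj (op U)) (T : Over U) (m : Fin 1 → M Y T) :
    ev Y (res P) (toCech₀ P Y s) T m = P.map T.hom.op s := by
  show (res P).map _ (comp Y (res P) 0 _ (toCech₀ P Y s)) = _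
  rw [comp_toCech₀]
  show P.map _ (P.map _ s) = _
  rw [← ConcreteCategory.comp_apply, ← P.map_comp]
  exact congrArg (fun k => P.map k s) (congrArg Quiver.Hom.op (Over.w (Pi.lift fun k => (m k).2)))

theorem toCech_natural {P Q : Cᵒᵖ ⥤ AddCommGrpCat.{u}} (φ : P ⟶ Q) (s : P.obj (op U)) :
    cechHMap Y φ 0 (toCech Y P s) = toCech Y Q (φ.app (op U) s) := by
  refine toCochain_injective Y Q ?_
  rw [toCochain_map, toCochain_toCech, toCochain_toCech]
  refine EtCechInjLib.comp_ext Y (res Q) fun a => ?_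
  refine (EtCechInjLib.comp_map Y (Functor.whiskerLeft (Over.forget U).op φ) 0 a (toCech₀ P Y s)).trans ?_
  rw [comp_toCech₀, comp_toCech₀]
  exact NatTrans.naturality_apply φ _ s

/-- the vertex at a member of the family -/
abbrev vtx (i : ι) : Fin 1 → M Y (Y i) := fun _ => ⟨i, 𝟙 _⟩

theorem toCech_bijective_of_isSheafFor (P : Cᵒᵖ ⥤ AddCommGrpCat.{u})
    (h : Presieve.IsSheafFor (P ⋙ CategoryTheory.forget AddCommGrpCat.{u})
      (Presieve.ofArrows (fun i => (Y i).left) (fun i => (Y i).hom))) :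
    Function.Bijective (toCech Y P) := by
  rw [Presieve.isSheafFor_arrows_iff] at h
  refine ⟨fun s t hst => ?_, fun c => ?_⟩
  · have h1 : toCech₀ P Y s = toCech₀ P Y t := by rw [← toCochain_toCech, ← toCochain_toCech, hst]
    have h2 : ∀ i, P.map (Y i).hom.op s = P.map (Y i).hom.op t := fun i => by
      rw [← ev_toCech₀ Y P s (Y i) (vtx Y i), ← ev_toCech₀ Y P t (Y i) (vtx Y i), h1]
    refine (h (fun i => P.map (Y i).hom.op t) fun i j Z gi gj hg => ?_).unique h2 fun i => rfl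
    show P.map gi.op (P.map (Y i).hom.op t) = P.map gj.op (P.map (Y j).hom.op t)
    rw [← ConcreteCategory.comp_apply, ← ConcreteCategory.comp_apply, ← P.map_comp, ← P.map_comp, ← op_comp,
      ← op_comp, hg]
  · let x := toCochain Y P c
    have hd : ∀ (T : Over U) (m : Fin 2 → M Y T),
        ev Y (res P) x T (m ∘ Fin.succAbove 0) = ev Y (res P) x T (m ∘ Fin.succAbove 1) := fun T m => by
      have h0 := (congrArg (fun y => ev Y (res P) y T m) (d_toCochain Y P c)).trans (EtCechInjLib.ev_zero Y (res P) T m)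
      have h1 : ev Y (res P) ((EtCechInjLib.cx Y (res P)).d 0 1 x) T m = 0 := h0
      rw [EtCechInjLib.ev_d, Fin.sum_univ_two] at h1
      simpa [← sub_eq_add_neg, sub_eq_zero] using h1
    have key : ∀ (T : Over U) (m : Fin 1 → M Y T),
        ev Y (res P) x T m = P.map (m 0).2.left.op (ev Y (res P) x (Y (m 0).1) (vtx Y (m 0).1)) := fun T m => by
      refine Eq.trans (congrArg (ev Y (res P) x T) ?_) (EtCechInjLib.ev_natural Y (res P) x (m 0).2 (vtx Y (m 0).1)).symm
      funext k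
      obtain rfl := Subsingleton.elim k 0
      simp [EtCechInjLib.pb]
    obtain ⟨t, ht, -⟩ := h (fun i => ev Y (res P) x (Y i) (vtx Y i)) fun i j Z gi gj hg => by
      let T : Over U := Over.mk (gi ≫ (Y i).hom)
      let gi' : T ⟶ Y i := Over.homMk gi rfl
      let gj' : T ⟶ Y j := Over.homMk gj hg.symm
      let m : Fin 2 → M Y T := ![⟨i, gi'⟩, ⟨j, gj'⟩]
      exact ((key T (m ∘ Fin.succAbove 0)).symm.trans ((hd T m).trans (key T (m ∘ Fin.succAbove 1)))).symm
    refine ⟨t, toCochain_injective Y P ?_⟩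
    rw [toCochain_toCech]
    refine EtCechInjLib.ev_ext Y (res P) fun T m => ?_
    rw [ev_toCech₀]
    show _ = ev Y (res P) x T m
    rw [key, ← ht (m 0).1]
    show P.map T.hom.op t = P.map _ (P.map _ t)
    rw [← ConcreteCategory.comp_apply, ← P.map_comp, ← op_comp, Over.w]

theorem isSheafFor_of_toCech_bijective (P : Cᵒᵖ ⥤ AddCommGrpCat.{u})
    (h : Function.Bijective (toCech Y P)) :
    Presieve.IsSheafFor (P ⋙ CategoryTheory.forget AddCommGrpCat.{u})
      (Presieve.ofArrows (fun i => (Y i).left) (fun i => (Y i).hom)) := by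
  rw [Presieve.isSheafFor_arrows_iff]
  intro u hu
  obtain ⟨x, hx⟩ := EtCechInjLib.exists_ev_eq Y (res P) (n := 0)
    (fun T m => (P.map (m 0).2.left.op (u (m 0).1) : (res P).obj (op T))) fun {T T'} g m => by
      show P.map g.left.op (P.map (m 0).2.left.op (u (m 0).1)) = P.map (g ≫ (m 0).2).left.op (u (m 0).1)
      rw [Over.comp_left, ← ConcreteCategory.comp_apply, ← P.map_comp, ← op_comp]
  have hdx : (cx P Y).d 0 1 x = 0 := EtCechInjLib.ev_ext Y (res P) fun T m => by
    show ev Y (res P) ((EtCechInjLib.cx Y (res P)).d 0 1 x) T m = ev Y (res P) 0 T m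
    rw [EtCechInjLib.ev_d, EtCechInjLib.ev_zero, Fin.sum_univ_two, hx, hx]
    have hc := hu (m 1).1 (m 0).1 T.left (m 1).2.left (m 0).2.left ((Over.w (m 1).2).trans (Over.w (m 0).2).symm)
    simp only [Function.comp_apply, Fin.val_zero, Fin.val_one, pow_zero, pow_one, one_smul, neg_smul]
    rw [← sub_eq_add_neg, sub_eq_zero]
    exact hc
  obtain ⟨c, hc⟩ := exists_cl Y P x hdx
  obtain ⟨t, rfl⟩ := h.2 c
  rw [toCochain_toCech] at hc
  have hev : ∀ i, P.map (Y i).hom.op t = u i := fun i => by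
    rw [← ev_toCech₀ Y P t (Y i) (vtx Y i), hc, hx]
    show P.map (𝟙 (Y i) : Y i ⟶ Y i).left.op (u i) = u i
    simp
  refine ⟨t, hev, fun s hs => h.1 (toCochain_injective Y P ?_)⟩
  rw [toCochain_toCech, toCochain_toCech]
  refine EtCechInjLib.ev_ext Y (res P) fun T m => ?_
  rw [ev_toCech₀, ev_toCech₀, ← Over.w (m 0).2, op_comp, P.map_comp, ConcreteCategory.comp_apply,
    ConcreteCategory.comp_apply]
  exact congrArg _ ((hs (m 0).1).trans (hev (m 0).1).symm)

theorem toCech_bijective_of_isSheaf {J : GrothendieckTopology C} (P : Cᵒᵖ ⥤ AddCommGrpCat.{u})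
    (hP : Presheaf.IsSheaf J P) (hY : Sieve.ofArrows (fun i => (Y i).left) (fun i => (Y i).hom) ∈ J U) :
    Function.Bijective (toCech Y P) := by
  refine toCech_bijective_of_isSheafFor Y P ?_
  rw [Presieve.isSheafFor_iff_generate]
  exact (isSheaf_iff_isSheaf_of_type J _).1
    ((Presheaf.isSheaf_iff_isSheaf_forget J P (CategoryTheory.forget AddCommGrpCat.{u})).1 hP) _ hY

theorem isSheaf_of_toCech_bijective {J : GrothendieckTopology C} (P : Cᵒᵖ ⥤ AddCommGrpCat.{u})
    (h : ∀ (U : C) (ι : Type u) (Y : ι → Over U),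
      Sieve.ofArrows (fun i => (Y i).left) (fun i => (Y i).hom) ∈ J U → Function.Bijective (toCech Y P)) :
    Presheaf.IsSheaf J P := by
  rw [Presheaf.isSheaf_iff_isSheaf_forget J P (CategoryTheory.forget AddCommGrpCat.{u}), isSheaf_iff_isSheaf_of_type]
  intro V R hR
  let κ := Σ W : C, { f : W ⟶ V // R f }
  let Z : κ → Over V := fun k => Over.mk k.2.1
  have hgen : Sieve.ofArrows (fun k => (Z k).left) (fun k => (Z k).hom) = R := by
    refine le_antisymm ?_ fun W f hf => ?_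
    · rw [Sieve.ofArrows, Sieve.generate_le_iff]
      rintro W f ⟨k⟩
      exact k.2.2
    · exact Sieve.le_generate _ _ _ (Presieve.ofArrows.mk (Y := fun k : κ => (Z k).left) ⟨W, f, hf⟩)
  have hR' : Sieve.ofArrows (fun k => (Z k).left) (fun k => (Z k).hom) ∈ J V := hgen.symm ▸ hR
  have h1 := isSheafFor_of_toCech_bijective Z P (h V κ Z hR')
  rw [Presieve.isSheafFor_iff_generate] at h1
  rw [← hgen]
  exact h1

end CechEdgeLib
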